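import Cfsg.Agent.H2.Gaschutz
import Cfsg.Agent.H82.J4A10.Defs

/-!
The normalizer of a self-centralising elementary group of order `2 ^ 10` splits once a complement
is known in a subgroup of odd index (helper9).
-/

set_option autoImplicit false

namespace H9.J4A10

open Subgroup

variable {G : Type*} [Group G] [Finite G]

theorem exists_complement {A : Subgroup G} (hA : H82.J4A10.IsTen A)
    (hN : Nat.card ↥(normalizer (A : Set G)) = 2 ^ 10 * 9999360) {C : Subgroup G}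
    (hC : C ≤ normalizer (A : Set G)) (hCA : C ⊓ A = ⊥) (hCc : Nat.card C = 2 ^ 10) :
    ∃ B : Subgroup G, B ≤ normalizer (A : Set G) ∧ B ⊓ A = ⊥ ∧
      B ⊔ A = normalizer (A : Set G) := by
  set N : Subgroup G := normalizer (A : Set G) with hNdef
  have hAN : A ≤ N := le_normalizer
  set K : Subgroup N := A.subgroupOf N with hK
  haveI : K.Normal := normal_subgroupOf_of_le_normalizer le_rfl
  haveI : IsMulCommutative K := ⟨⟨fun x y => Subtype.ext (Subtype.ext
    (id (α := ((x : N) : G) * ((y : N) : G) = ((y : N) : G) * ((x : N) : G)) (congrArg Subtype.val (hA.elem.1.is_comm.comm ⟨((x : N) : G), mem_subgroupOf.1 x.2⟩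
      ⟨((y : N) : G), mem_subgroupOf.1 y.2⟩))))⟩⟩
  set C' : Subgroup N := C.subgroupOf N with hC'
  have hKc : Nat.card K = 2 ^ 10 := by
    rw [Nat.card_congr (subgroupOfEquivOfLe hAN).toEquiv, hA.card_A]
  have hC'c : Nat.card C' = 2 ^ 10 := by
    rw [Nat.card_congr (subgroupOfEquivOfLe hC).toEquiv, hCc]
  have hdis : C' ⊓ K = ⊥ := by
    rw [eq_bot_iff]
    intro x hx
    have h : (x : G) ∈ C ⊓ A := ⟨mem_subgroupOf.1 hx.1, mem_subgroupOf.1 hx.2⟩
    rw [hCA, mem_bot] at h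
    exact mem_bot.2 (Subtype.ext h)
  have hbij : Function.Bijective fun p : K × C' =>
      (⟨(p.1 : N) * p.2, mul_mem (mem_sup_left p.1.2) (mem_sup_right p.2.2)⟩ : ↥(K ⊔ C')) := by
    refine ⟨fun p q h => ?_, fun u => ?_⟩
    · have h' : (p.1 : N) * p.2 = q.1 * q.2 := congrArg Subtype.val h
      have h1 : (q.1 : N)⁻¹ * p.1 = q.2 * (p.2 : N)⁻¹ := by
        rw [inv_mul_eq_iff_eq_mul, ← mul_assoc, ← h', mul_inv_cancel_right]
      have h2 : (q.1 : N)⁻¹ * p.1 ∈ C' ⊓ K :=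
        ⟨h1 ▸ mul_mem q.2.2 (Subgroup.inv_mem _ p.2.2), mul_mem (Subgroup.inv_mem _ q.1.2) p.1.2⟩
      rw [hdis, mem_bot, inv_mul_eq_one] at h2
      refine Prod.ext (Subtype.ext h2.symm) (Subtype.ext ?_)
      rw [← h2] at h'
      exact mul_left_cancel h'
    · have hu : (u : N) ∈ ((K ⊔ C' : Subgroup N) : Set N) := u.2
      rw [normal_mul] at hu
      obtain ⟨k, hk, c, hc, e⟩ := Set.mem_mul.1 hu
      exact ⟨(⟨k, hk⟩, ⟨c, hc⟩), Subtype.ext e⟩
  have hUc : Nat.card ↥(K ⊔ C') = 2 ^ 10 * 2 ^ 10 := by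
    rw [← Nat.card_congr (Equiv.ofBijective _ hbij), Nat.card_prod, hKc, hC'c]
  have hidx : (K ⊔ C').index = 9765 := by
    have h := (K ⊔ C').card_mul_index
    rw [hUc, hN, show 2 ^ 10 * 9999360 = 2 ^ 10 * 2 ^ 10 * 9765 by norm_num] at h
    exact Nat.eq_of_mul_eq_mul_left (by norm_num) h
  obtain ⟨H, hH⟩ := H2.gaschutz_exists (le_sup_left : K ≤ K ⊔ C')
    (by rw [hKc, hidx]; norm_num) C' le_sup_right hdis rfl
  refine ⟨H.map N.subtype, map_subtype_le H, ?_, ?_⟩
  · rw [eq_bot_iff]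
    rintro _ ⟨⟨x, hx, rfl⟩, hxA⟩
    have h : x ∈ K ⊓ H := ⟨mem_subgroupOf.2 hxA, hx⟩
    rw [hH.disjoint.eq_bot, mem_bot] at h
    rw [h, map_one]
    exact one_mem _
  · have hKA : K.map N.subtype = A := by rw [hK, subgroupOf_map_subtype, inf_eq_left.2 hAN]
    conv_lhs => rw [← hKA]
    rw [← Subgroup.map_sup, sup_comm, hH.sup_eq_top, ← MonoidHom.range_eq_map, range_subtype]

/-- the data moves with conjugation -/
theorem complement_seed_map {A C : Subgroup G} (hC : C ≤ normalizer (A : Set G)) (hCA : C ⊓ A = ⊥)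
    (hCc : Nat.card C = 2 ^ 10) (g : G) :
    C.map (MulAut.conj g).toMonoidHom ≤ normalizer ((A.map (MulAut.conj g).toMonoidHom : Subgroup G) : Set G) ∧
      C.map (MulAut.conj g).toMonoidHom ⊓ A.map (MulAut.conj g).toMonoidHom = ⊥ ∧
      Nat.card ↥(C.map (MulAut.conj g).toMonoidHom) = 2 ^ 10 := by
  refine ⟨(map_mono hC).trans (le_normalizer_map _), ?_, ?_⟩
  · rw [← map_inf _ _ _ (MulAut.conj g).injective, hCA, Subgroup.map_bot]
  · exact (card_map_of_injective (MulAut.conj g).injective).trans hCc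

end H9.J4A10
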