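import Cfsg.Agent.H9.J4A10.SeedCert
import Cfsg.Agent.H9.J4A10.Split

/-!
The seed for Gaschütz's theorem: a subgroup of order `2 ^ 10` normalising the standard subgroup and
meeting it trivially, and the resulting splitting (helper9).
-/

set_option autoImplicit false

namespace H9.J4A10

open Subgroup Cfsg.Agent.H69.J4 H54.J4A10

variable {G : Type*} [Group G] {z : G} {V : Subgroup G} (C : Cfg z V)

theorem isM_of_isMb {l li π : List ℕ} (h : isMb l li π = true) : IsM l := by
  simp only [isMb, Bool.and_eq_true, List.all_eq_true, decide_eq_true_eq, List.mem_range,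
    Bool.or_eq_true, Bool.not_eq_true', Nat.blt_eq] at h
  obtain ⟨⟨⟨h1, h2⟩, h3⟩, h4⟩ := h
  refine ⟨Nat.eq_of_beq_eq_true h1, fun a ha => h2 a ha, fun a ha b hb e => ?_, fun p hp q hq hpq => ?_⟩
  · have e' : ap li (ap l a) = ap li (ap l b) := by rw [e]
    rwa [← ap_mm, ← ap_mm, h3, ap_idM a ha, ap_idM b hb] at e'
  · obtain ⟨hne, he⟩ := ((h4 p hp).2 q hq).resolve_left fun e => hpq (Nat.eq_of_beq_eq_true e)
    refine ⟨π.getD p 0, π.getD q 0, (h4 p hp).1, (h4 q hq).1, fun e => ?_, Nat.eq_of_beq_eq_true he⟩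
    rw [e] at hne
    simp at hne

/-- `g` has the given coordinates in `V : K`. -/
def Rep (g : G) (x : ℕ × List ℕ) : Prop :=
  x.1 < 2048 ∧ ∃ k : ↥C.K, C.code k = x.2 ∧ g = C.co x.1 * (k : G)

theorem co_zero : C.co 0 = 1 := by
  have h := C.co_xor 0 (by norm_num) 0 (by norm_num)
  rw [Nat.xor_self] at h
  exact mul_eq_left.1 h.symm

theorem rep_mul {g h : G} {x y : ℕ × List ℕ} (hg : Rep C g x) (hh : Rep C h y) :
    Rep C (g * h) (pm x y) := by
  obtain ⟨hx, k, hk, rfl⟩ := hg
  obtain ⟨hy, j, hj, rfl⟩ := hh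
  have hl : ap x.2 y.1 < 2048 := ap_lt (n := 11) (hk ▸ (C.code_spec k).2.1) _
  refine ⟨Nat.xor_lt_two_pow (n := 11) hx hl, k * j, by rw [C.code_mul, hk, hj]; rfl, ?_⟩
  show _ = C.co (x.1 ^^^ ap x.2 y.1) * ((k : G) * (j : G))
  rw [C.co_xor _ hx _ hl, ← hk, ← C.code_act k _ hy]
  group

theorem rep_unique {g h : G} {x : ℕ × List ℕ} (hg : Rep C g x) (hh : Rep C h x) : g = h := by
  obtain ⟨-, k, hk, rfl⟩ := hg
  obtain ⟨-, j, hj, rfl⟩ := hh
  rw [C.code_inj (hk.trans hj.symm)]

theorem rep_inj {g : G} {x y : ℕ × List ℕ} (hg : Rep C g x) (hh : Rep C g y) : x = y := by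
  obtain ⟨hx, k, hk, rfl⟩ := hg
  obtain ⟨hy, j, hj, e⟩ := hh
  have h1 : (j : G) * (k : G)⁻¹ = (C.co y.1)⁻¹ * C.co x.1 := by
    rw [eq_inv_mul_iff_mul_eq, ← mul_assoc, ← e, mul_inv_cancel_right]
  have h2 : (j : G) * (k : G)⁻¹ ∈ C.K ⊓ V :=
    ⟨C.K.mul_mem j.2 (C.K.inv_mem k.2), h1 ▸ V.mul_mem (V.inv_mem (C.co_mem _ hy)) (C.co_mem _ hx)⟩
  rw [C.K_inf, mem_bot, mul_inv_eq_one] at h2
  rw [show j = k from Subtype.ext h2] at hj e
  exact Prod.ext (C.co_inj _ hx _ hy (mul_right_cancel e)) (hk.symm.trans hj)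

theorem rep_exists {v : ℕ} {l : List ℕ} (hv : v < 2048) (hl : IsM l) : ∃ g, Rep C g (v, l) := by
  obtain ⟨k, hk⟩ := C.code_surj l hl
  exact ⟨_, hv, k, hk, rfl⟩

theorem rep_one : Rep C 1 (0, idM) := by
  obtain ⟨k, hk⟩ := C.code_surj idM (isM_of_isMb id_ok)
  have hkk : k * k = k := C.code_inj (by
    rw [C.code_mul, hk]; decide +kernel)
  rw [mul_eq_left] at hkk
  refine ⟨by norm_num, k, hk, ?_⟩
  simp [co_zero C, hkk]

/-- The subgroup generated by the first generators is as the normal forms say. -/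
theorem chain [Finite G] (gn : ℕ → G) (hgn : ∀ i < 10, Rep C (gn i) (sg i)) :
    ∀ i ≤ 10, (∀ a < 2 ^ i, ∃ g ∈ closure (gn '' Set.Iio i), Rep C g (el i a)) ∧
      (∀ g ∈ closure (gn '' Set.Iio i), ∃ a < 2 ^ i, Rep C g (el i a)) ∧
      Nat.card ↥(closure (gn '' Set.Iio i)) = 2 ^ i := by
  intro i
  induction i with
  | zero =>
    intro _
    have h0 : closure (gn '' Set.Iio 0) = ⊥ := by
      rw [eq_bot_iff, closure_le]
      rintro _ ⟨j, hj, rfl⟩
      exact absurd (Set.mem_Iio.1 hj) (by omega)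
    rw [h0]
    refine ⟨fun a _ => ⟨1, one_mem _, rep_one C⟩, fun g hg => ⟨0, by norm_num, ?_⟩, by simp⟩
    rw [mem_bot.1 hg]
    exact rep_one C
  | succ i ih =>
    intro hi
    obtain ⟨hE, hF, hc⟩ := ih (by omega)
    set H := closure (gn '' Set.Iio i) with hH
    set g := gn i with hg
    have hi10 : i < 10 := by omega
    have hsq : g * g ∈ H := by
      have h := (List.all_eq_true.1 sq_ok) i (List.mem_range.2 hi10)
      simp only [Bool.and_eq_true, Nat.blt_eq, decide_eq_true_eq] at h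
      obtain ⟨k, hk, hr⟩ := hE _ h.1
      have e : g * g = k := rep_unique C (h.2 ▸ rep_mul C (hgn i hi10) (hgn i hi10)) hr
      rw [e]; exact hk
    have hnorm : ∀ x ∈ H, g⁻¹ * x * g ∈ H := by
      intro x hx
      have hle : H ≤ H.comap (MulAut.conj g⁻¹).toMonoidHom := by
        rw [hH, closure_le]
        rintro _ ⟨j, hj, rfl⟩
        have hj' : j < i := hj
        have h := (List.all_eq_true.1 ((List.all_eq_true.1 rel_ok) i (List.mem_range.2 hi10))) j
          (List.mem_range.2 hj')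
        simp only [Bool.and_eq_true, Nat.blt_eq, decide_eq_true_eq] at h
        obtain ⟨k, hk, hr⟩ := hE _ h.1
        have he := rep_unique C (h.2 ▸ rep_mul C (hgn j (by omega)) (hgn i hi10))
          (rep_mul C (hgn i hi10) hr)
        rw [SetLike.mem_coe, mem_comap, MulEquiv.coe_toMonoidHom, MulAut.conj_apply, inv_inv, mul_assoc, he, inv_mul_cancel_left]
        exact hk
      have := hle hx
      simpa [mem_comap] using this
    have hgH : g ∉ H := by
      intro hgm
      obtain ⟨a, ha, hr⟩ := hF g hgm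
      have h := (List.all_eq_true.1 ((List.all_eq_true.1 new_ok) i (List.mem_range.2 hi10))) a
        (List.mem_range.2 ha)
      rw [rep_inj C hr (hgn i hi10)] at h
      simp at h
    set H' := closure (gn '' Set.Iio (i + 1)) with hH'
    have hHH' : H ≤ H' := closure_mono (Set.image_mono fun j hj => by
      simp only [Set.mem_Iio] at hj ⊢; omega)
    have hgH' : g ∈ H' := subset_closure ⟨i, by simp, rfl⟩
    have hsplit : ∀ x ∈ H', x ∈ H ∨ g⁻¹ * x ∈ H := by
      intro x hx
      induction hx using Subgroup.closure_induction with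
      | mem x hx =>
        obtain ⟨j, hj, rfl⟩ := hx
        rcases Nat.lt_succ_iff_lt_or_eq.1 (Set.mem_Iio.1 hj) with hlt | rfl
        · exact Or.inl (subset_closure ⟨j, hlt, rfl⟩)
        · exact Or.inr (by rw [inv_mul_cancel]; exact one_mem _)
      | one => exact Or.inl (one_mem _)
      | mul x y _ _ hx hy =>
        rcases hx with hx | hx <;> rcases hy with hy | hy
        · exact Or.inl (mul_mem hx hy)
        · refine Or.inr ?_
          rw [show g⁻¹ * (x * y) = g⁻¹ * x * g * (g⁻¹ * y) by group]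
          exact mul_mem (hnorm x hx) hy
        · exact Or.inr (by rw [← mul_assoc]; exact mul_mem hx hy)
        · refine Or.inl ?_
          rw [show x * y = g * g * (g⁻¹ * (g⁻¹ * x) * g) * (g⁻¹ * y) by group]
          exact mul_mem (mul_mem hsq (hnorm _ hx)) hy
      | inv x _ hx =>
        rcases hx with hx | hx
        · exact Or.inl (inv_mem hx)
        · refine Or.inr ?_
          rw [show g⁻¹ * x⁻¹ = g⁻¹ * (g⁻¹ * x)⁻¹ * g * (g * g)⁻¹ by group]
          exact mul_mem (hnorm _ (inv_mem hx)) (inv_mem hsq)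
    have hel : ∀ a < 2 ^ i, el (i + 1) (a + 2 ^ i) = pm (sg i) (el i a) := fun a _ => by
      rw [el, show Nat.blt (a + 2 ^ i) (2 ^ i) = false by
        rw [Bool.eq_false_iff, Ne, Nat.blt_eq]; omega]
      simp
    refine ⟨fun a ha => ?_, fun x hx => ?_, ?_⟩
    · by_cases h : a < 2 ^ i
      · obtain ⟨k, hk, hr⟩ := hE a h
        refine ⟨k, hHH' hk, ?_⟩
        rw [el, show Nat.blt a (2 ^ i) = true by rw [Nat.blt_eq]; exact h]
        exact hr
      · obtain ⟨k, hk, hr⟩ := hE (a - 2 ^ i) (by rw [pow_succ] at ha; omega)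
        refine ⟨g * k, mul_mem hgH' (hHH' hk), ?_⟩
        rw [el, show Nat.blt a (2 ^ i) = false by rw [Bool.eq_false_iff, Ne, Nat.blt_eq]; exact h]
        exact rep_mul C (hgn i hi10) hr
    · rcases hsplit x hx with hx | hx
      · obtain ⟨a, ha, hr⟩ := hF x hx
        refine ⟨a, by rw [pow_succ]; omega, ?_⟩
        rw [el, show Nat.blt a (2 ^ i) = true by rw [Nat.blt_eq]; exact ha]
        exact hr
      · obtain ⟨a, ha, hr⟩ := hF _ hx
        refine ⟨a + 2 ^ i, by rw [pow_succ]; omega, ?_⟩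
        rw [hel a ha, show x = g * (g⁻¹ * x) by group]
        exact rep_mul C (hgn i hi10) hr
    · let f : H ⊕ H → H' := Sum.elim (fun x => ⟨x, hHH' x.2⟩) fun x => ⟨g * x, mul_mem hgH' (hHH' x.2)⟩
      have hf : Function.Bijective f := by
        refine ⟨?_, fun x => ?_⟩
        · rintro (a | a) (b | b) e <;> have e' := congrArg Subtype.val e <;> simp only [f, Sum.elim_inl, Sum.elim_inr] at e'
          · exact congrArg Sum.inl (Subtype.ext e')
          · exact absurd (by rw [show g = (a : G) * (b : G)⁻¹ by rw [e', mul_inv_cancel_right]]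
                             exact mul_mem a.2 (inv_mem b.2)) hgH
          · exact absurd (by rw [show g = (b : G) * (a : G)⁻¹ by rw [← e', mul_inv_cancel_right]]
                             exact mul_mem b.2 (inv_mem a.2)) hgH
          · exact congrArg Sum.inr (Subtype.ext (mul_left_cancel e'))
        · rcases hsplit x x.2 with hx | hx
          · exact ⟨Sum.inl ⟨x, hx⟩, rfl⟩
          · exact ⟨Sum.inr ⟨_, hx⟩, Subtype.ext (mul_inv_cancel_left g x)⟩
      rw [← Nat.card_congr (Equiv.ofBijective f hf), Nat.card_sum, hc, pow_succ]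
      ring

theorem rep_qel (i : ℕ) (hi : i < 16) : Rep C (C.qel i) (0, qMat i) := by
  classical
  have hM : ∃ k, C.code k = qMat i :=
    C.code_surj _ (isM_of_isMb ((List.all_eq_true.1 q_ok) i (List.mem_range.2 hi)))
  refine ⟨by norm_num, hM.choose, hM.choose_spec, ?_⟩
  rw [Cfg.qel, dif_pos hM]
  simp [co_zero C]

theorem wv_spec {a : ℕ} (ha : a < 64) :
    wv a < 2048 ∧ ∀ b < 64, wv a ^^^ wv b = wv (a ^^^ b) := by
  have h := (List.all_eq_true.1 w_lt) a (List.mem_range.2 ha)
  simp only [Bool.and_eq_true, Nat.blt_eq, List.all_eq_true, List.mem_range] at h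
  exact ⟨h.1, fun b hb => Nat.eq_of_beq_eq_true (h.2 b hb)⟩

theorem rep_ael (a : ℕ) (ha : a < 1024) : Rep C (C.ael a) (repA a) := by
  have hw : Rep C (C.co (wv (a % 64))) (wv (a % 64), idM) := by
    obtain ⟨-, k, hk, e⟩ := rep_one C
    refine ⟨(wv_spec (Nat.mod_lt _ (by norm_num))).1, k, hk, ?_⟩
    rw [co_zero C, one_mul] at e
    show _ = C.co (wv (a % 64)) * (k : G)
    rw [← e, mul_one]
  have h := rep_mul C hw (rep_qel C (a / 64) (by omega))
  have hl : mm idM (qMat (a / 64)) = qMat (a / 64) := by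
    have hM := isM_of_isMb ((List.all_eq_true.1 q_ok) (a / 64) (List.mem_range.2 (by omega)))
    exact (List.map_congr_left fun x hx => ap_idM x (hM.2.1 x hx)).trans (List.map_id' _)
  have e : pm (wv (a % 64), idM) (0, qMat (a / 64)) = repA a := by
    simp only [pm, repA, hl, ap_zero_right, Nat.xor_zero]
  exact e ▸ h

/-- Elements of the standard subgroup have coordinates in `W × Q₀`. -/
theorem rep_A0 [Finite G] {g : G} (hg : g ∈ C.A0) : ∃ a < 1024, Rep C g (repA a) := by
  have hmem : g ∈ (closure (C.ael '' Set.Iio 1024)).toSubmonoid := hg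
  rw [closure_toSubmonoid_of_finite] at hmem
  clear hg
  induction hmem using Submonoid.closure_induction with
  | mem x hx =>
    obtain ⟨a, ha, rfl⟩ := hx
    exact ⟨a, ha, rep_ael C a ha⟩
  | one => exact ⟨0, by norm_num, by
      have h : repA 0 = (0, idM) := by decide +kernel
      rw [h]; exact rep_one C⟩
  | mul x y _ _ hx hy =>
    obtain ⟨a, ha, hx⟩ := hx
    obtain ⟨b, hb, hy⟩ := hy
    have h1 : a % 64 < 64 := Nat.mod_lt _ (by norm_num)
    have h2 : b % 64 < 64 := Nat.mod_lt _ (by norm_num)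
    have h3 : a / 64 < 16 := by omega
    have h4 : b / 64 < 16 := by omega
    refine ⟨(a % 64 ^^^ b % 64) + 64 * (a / 64 ^^^ b / 64), ?_, ?_⟩
    · have := Nat.xor_lt_two_pow (n := 6) h1 h2
      have := Nat.xor_lt_two_pow (n := 4) h3 h4
      omega
    · have e6 := Nat.xor_lt_two_pow (n := 6) h1 h2
      have hf := Nat.eq_of_beq_eq_true ((List.all_eq_true.1 ((List.all_eq_true.1 q_fix) _
        (List.mem_range.2 h3))) _ (List.mem_range.2 h2))
      have hm := (List.all_eq_true.1 ((List.all_eq_true.1 q_mul) _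
        (List.mem_range.2 h3))) _ (List.mem_range.2 h4)
      rw [decide_eq_true_eq] at hm
      have e : pm (repA a) (repA b) = repA ((a % 64 ^^^ b % 64) + 64 * (a / 64 ^^^ b / 64)) := by
        have d1 : ((a % 64 ^^^ b % 64) + 64 * (a / 64 ^^^ b / 64)) % 64 = a % 64 ^^^ b % 64 := by
          rw [Nat.add_mul_mod_self_left, Nat.mod_eq_of_lt e6]
        have d2 : ((a % 64 ^^^ b % 64) + 64 * (a / 64 ^^^ b / 64)) / 64 = a / 64 ^^^ b / 64 := by
          rw [Nat.add_mul_div_left _ _ (by norm_num), Nat.div_eq_of_lt e6, zero_add]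
        simp only [pm, repA, d1, d2, hf, hm, (wv_spec h1).2 _ h2]
      exact e ▸ rep_mul C hx hy

theorem ael_mem (a : ℕ) (ha : a < 1024) : C.ael a ∈ C.A0 := subset_closure ⟨a, ha, rfl⟩

theorem ael_split (a : ℕ) (ha : a < 1024) :
    C.ael a = C.ael (baseA (a % 64)) * C.ael (baseA (a / 64 + 64)) := by
  have hq : C.qel 0 = 1 := by
    have h := rep_qel C 0 (by norm_num)
    have e : qMat 0 = idM := by decide +kernel
    rw [e] at h
    exact rep_unique C h (rep_one C)
  have h0 : wv 0 = 0 := by decide +kernel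
  have e1 : baseA (a % 64) = a % 64 := by
    rw [baseA, show Nat.blt (a % 64) 64 = true by rw [Nat.blt_eq]; omega]; rfl
  have e2 : baseA (a / 64 + 64) = 64 * (a / 64) := by
    rw [baseA, show Nat.blt (a / 64 + 64) 64 = false by rw [Bool.eq_false_iff, Ne, Nat.blt_eq]; omega]
    simp
  rw [e1, e2, Cfg.ael, Cfg.ael, Cfg.ael, Nat.mod_mod, Nat.div_eq_of_lt (Nat.mod_lt _ (by norm_num)),
    Nat.mul_mod_right, Nat.mul_div_cancel_left _ (by norm_num : 0 < 64), hq, h0, co_zero C, mul_one,
    one_mul]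

/-- The seed. -/
theorem exists_seed [Finite G] : ∃ S : Subgroup G,
    S ≤ normalizer (C.A0 : Set G) ∧ S ⊓ C.A0 = ⊥ ∧ Nat.card S = 2 ^ 10 := by
  classical
  have hex : ∀ i, ∃ g, i < 10 → Rep C g (sg i) := fun i => by
    by_cases hi : i < 10
    · have h := (List.all_eq_true.1 gen_ok) i (List.mem_range.2 hi)
      simp only [Bool.and_eq_true, Nat.blt_eq] at h
      obtain ⟨g, hg⟩ := rep_exists C h.1 (isM_of_isMb h.2)
      exact ⟨g, fun _ => hg⟩
    · exact ⟨1, fun h => absurd h hi⟩
  choose gn hgn using hex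
  obtain ⟨-, hF, hc⟩ := chain C gn hgn 10 le_rfl
  refine ⟨closure (gn '' Set.Iio 10), ?_, ?_, hc⟩
  · rw [closure_le]
    rintro _ ⟨i, hi, rfl⟩
    have hi' : i < 10 := hi
    have hconj : ∀ n < 80, gn i * C.ael (baseA n) * (gn i)⁻¹ ∈ C.A0 := by
      intro n hn
      have h := (List.all_eq_true.1 ((List.all_eq_true.1 conj_ok) i (List.mem_range.2 hi'))) n
        (List.mem_range.2 hn)
      simp only [Bool.and_eq_true, Nat.blt_eq, decide_eq_true_eq] at h
      have hb : baseA n < 1024 := by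
        by_cases h64 : n < 64
        · rw [baseA, show Nat.blt n 64 = true by rw [Nat.blt_eq]; exact h64]; simp; omega
        · rw [baseA, show Nat.blt n 64 = false by rw [Bool.eq_false_iff, Ne, Nat.blt_eq]; exact h64]
          simp; omega
      have he := rep_unique C (h.2 ▸ rep_mul C (hgn i hi') (rep_ael C _ hb))
        (rep_mul C (rep_ael C _ h.1) (hgn i hi'))
      rw [he, mul_inv_cancel_right]
      exact ael_mem C _ h.1
    have hle : C.A0 ≤ C.A0.comap (MulAut.conj (gn i)).toMonoidHom := by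
      refine (closure_le _).2 ?_
      rintro _ ⟨a, ha, rfl⟩
      show gn i * C.ael a * (gn i)⁻¹ ∈ C.A0
      rw [ael_split C a ha, show gn i * (C.ael (baseA (a % 64)) * C.ael (baseA (a / 64 + 64))) * (gn i)⁻¹
        = gn i * C.ael (baseA (a % 64)) * (gn i)⁻¹ * (gn i * C.ael (baseA (a / 64 + 64)) * (gn i)⁻¹) by
          group]
      have ha' : a < 1024 := ha
      exact mul_mem (hconj _ (by omega)) (hconj _ (by omega))
    exact mem_normalizer_fintype fun x hx => hle hx
  · rw [eq_bot_iff]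
    rintro g ⟨hg, hgA⟩
    obtain ⟨a, ha, hr⟩ := hF g hg
    obtain ⟨b, hb, hr'⟩ := rep_A0 C hgA
    have e := rep_inj C hr hr'
    have h := (List.all_eq_true.1 meet_ok) a (List.mem_range.2 ha)
    simp only [Bool.or_eq_true, Bool.not_eq_true'] at h
    rcases h with (h | h) | h
    · rw [Nat.eq_of_beq_eq_true h] at hr
      have h0 : el 10 0 = (0, idM) := by decide +kernel
      rw [h0] at hr
      exact mem_bot.2 (rep_unique C hr (rep_one C))
    · have hw : inW (el 10 a).1 = true :=
        List.any_eq_true.2 ⟨b % 64, List.mem_range.2 (Nat.mod_lt _ (by norm_num)), by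
          rw [e]; exact Nat.beq_refl _⟩
      rw [hw] at h
      exact absurd h (by decide)
    · have hq : ((List.range 16).any fun q => decide (qMat q = (el 10 a).2)) = true :=
        List.any_eq_true.2 ⟨b / 64, List.mem_range.2 (by omega), by rw [e]; simp [repA]⟩
      rw [hq] at h
      exact absurd h (by decide)

/-- The normalizer of a conjugate of the standard subgroup splits. -/
theorem split [Finite G] {A : Subgroup G} {n : G} (hn : A = C.A0.map (MulAut.conj n).toMonoidHom)
    (hA : H82.J4A10.IsTen A) (hN : Nat.card ↥(normalizer (A : Set G)) = 2 ^ 10 * 9999360) :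
    ∃ B : Subgroup G, B ≤ normalizer (A : Set G) ∧ B ⊓ A = ⊥ ∧
      B ⊔ A = normalizer (A : Set G) := by
  obtain ⟨S, h1, h2, h3⟩ := exists_seed C
  obtain ⟨i1, i2, i3⟩ := complement_seed_map h1 h2 h3 n
  rw [← hn] at i1 i2
  exact exists_complement hA hN i1 i2 i3

end H9.J4A10
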