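import Cfsg.Agent.H9.J4A10.SeedData
import Cfsg.Agent.H69.J4.Frame

/-!
The finite checks on the certificate (helper9).
-/

set_option autoImplicit false
set_option maxRecDepth 20000

namespace H9.J4A10

open Cfsg.Agent.H69.J4 H54.J4A10

/-- The unit matrix. -/
def idM : List ℕ := [1, 2, 4, 8, 16, 32, 64, 128, 256, 512, 1024]

/-- Product in `V : K`. -/
def pm (a b : ℕ × List ℕ) : ℕ × List ℕ := (a.1 ^^^ ap a.2 b.1, mm a.2 b.2)

/-- A generator. -/
def sg (i : ℕ) : ℕ × List ℕ := seedGen.getD i (0, idM)

/-- The normal form with the given bits. -/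
def el : ℕ → ℕ → ℕ × List ℕ
  | 0, _ => (0, idM)
  | i + 1, a => bif Nat.blt a (2 ^ i) then el i a else pm (sg i) (el i (a - 2 ^ i))

/-- The code of an element of the standard subgroup. -/
def repA (a : ℕ) : ℕ × List ℕ := (wv (a % 64), qMat (a / 64))

/-- Check that a matrix permutes the labels. -/
def isMb (l li π : List ℕ) : Bool :=
  Nat.beq l.length 11 && l.all (fun a => Nat.blt a 2048) && decide (mm li l = idM) &&
    (List.range 24).all (fun p => Nat.blt (π.getD p 0) 24 && (List.range 24).all fun q =>
      Nat.beq p q || (!Nat.beq (π.getD p 0) (π.getD q 0) &&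
        Nat.beq (ap l (H19.J4V.labT p q)) (H19.J4V.labT (π.getD p 0) (π.getD q 0))))

theorem gen_ok : ((List.range 10).all fun i => Nat.blt (sg i).1 2048 &&
    isMb (sg i).2 (seedInv.getD i []) (seedPerm.getD i [])) = true := by decide +kernel

theorem q_ok : ((List.range 16).all fun i =>
    isMb (qMat i) (qMat i) (qPerm.getD i [])) = true := by decide +kernel

theorem id_ok : isMb idM idM (List.range 24) = true := by decide +kernel

theorem ap_idM : ∀ v < 2048, ap idM v = v := by
  have h : ((List.range 2048).all fun u => Nat.beq (ap idM u) u) = true := by decide +kernel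
  exact fun v hv => Nat.eq_of_beq_eq_true ((List.all_eq_true.1 h) v (List.mem_range.2 hv))

theorem sq_ok : ((List.range 10).all fun i => Nat.blt (seedSq.getD i 0) (2 ^ i) &&
    decide (pm (sg i) (sg i) = el i (seedSq.getD i 0))) = true := by decide +kernel

theorem rel_ok : ((List.range 10).all fun i => (List.range i).all fun j =>
    Nat.blt ((seedRel.getD i []).getD j 0) (2 ^ i) &&
      decide (pm (sg j) (sg i) = pm (sg i) (el i ((seedRel.getD i []).getD j 0)))) = true := by
  decide +kernel

theorem new_ok : ((List.range 10).all fun i => (List.range (2 ^ i)).all fun a =>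
    !Nat.beq (el i a).1 (sg i).1 || !decide ((el i a).2 = (sg i).2)) = true := by decide +kernel

/-- Membership in `W`. -/
def inW (v : ℕ) : Bool := (List.range 64).any fun b => Nat.beq (wv b) v

theorem meet_ok : ((List.range 1024).all fun a => Nat.beq a 0 || !inW (el 10 a).1 ||
    !((List.range 16).any fun q => decide (qMat q = (el 10 a).2))) = true := by decide +kernel

theorem w_lt : ((List.range 64).all fun a => Nat.blt (wv a) 2048 &&
    (List.range 64).all fun b => Nat.beq (wv a ^^^ wv b) (wv (a ^^^ b))) = true := by decide +kernel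

theorem q_mul : ((List.range 16).all fun i => (List.range 16).all fun j =>
    decide (mm (qMat i) (qMat j) = qMat (i ^^^ j))) = true := by decide +kernel

theorem q_fix : ((List.range 16).all fun i => (List.range 64).all fun a =>
    Nat.beq (ap (qMat i) (wv a)) (wv a)) = true := by decide +kernel

/-- The codes whose elements generate the standard subgroup. -/
def baseA (n : ℕ) : ℕ := bif Nat.blt n 64 then n else 64 * (n - 64)

theorem conj_ok : ((List.range 10).all fun i => (List.range 80).all fun n =>
    Nat.blt ((seedConj.getD i []).getD n 0) 1024 &&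
      decide (pm (sg i) (repA (baseA n)) = pm (repA ((seedConj.getD i []).getD n 0)) (sg i))) = true := by
  decide +kernel

end H9.J4A10
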